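import Groth.Prelude.Def_FSch4
import Groth.Agent.S0289

/-!
Finite étale covers of a system of thickenings are determined by their bottom level.
-/

set_option autoImplicit false
set_option backward.isDefEq.respectTransparency.types false

universe u

open CategoryTheory CategoryTheory.Limits AlgebraicGeometry

noncomputable section

namespace Groth.Agent.EtCov27

section Thick

variable {X' X : Scheme.{u}} (f : X' ⟶ X) [IsClosedImmersion f] [Surjective f]

theorem isEquivalence_restrict : (FEt.restrict f).IsEquivalence := S0289.result f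

variable {A' A B' B : Scheme.{u}} {s : A' ⟶ A} {a' : A' ⟶ X'} {a : A ⟶ X}
  {t : B' ⟶ B} {b' : B' ⟶ X'} {b : B ⟶ X}

theorem hom_unique (ha : FEt.prop a) (hb : FEt.prop b) (hA : IsPullback s a' a f)
    {h₁ h₂ : A ⟶ B} (w₁ : h₁ ≫ b = a) (w₂ : h₂ ≫ b = a) (e : s ≫ h₁ = s ≫ h₂) : h₁ = h₂ := by
  have := isEquivalence_restrict f
  let AA : FEt.Cat X := MorphismProperty.Over.mk ⊤ a ha
  let BB : FEt.Cat X := MorphismProperty.Over.mk ⊤ b hb
  let m₁ : AA ⟶ BB := MorphismProperty.Over.homMk h₁ w₁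
  let m₂ : AA ⟶ BB := MorphismProperty.Over.homMk h₂ w₂
  have e' : pullback.fst a f ≫ h₁ = pullback.fst a f ≫ h₂ := by
    rw [← hA.isoPullback_inv_fst, Category.assoc, Category.assoc, e]
  have h : (FEt.restrict f).map m₁ = (FEt.restrict f).map m₂ :=
    MorphismProperty.Over.Hom.ext <| pullback.hom_ext
      ((pullback.lift_fst _ _ _).trans (e'.trans (pullback.lift_fst _ _ _).symm))
      ((pullback.lift_snd _ _ _).trans (pullback.lift_snd _ _ _).symm)
  exact congrArg (fun k => k.left) ((FEt.restrict f).map_injective h)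

theorem hom_exists (ha : FEt.prop a) (hb : FEt.prop b) (hA : IsPullback s a' a f) (hB : IsPullback t b' b f)
    (g : A' ⟶ B') (wg : g ≫ b' = a') : ∃ h : A ⟶ B, h ≫ b = a ∧ s ≫ h = g ≫ t := by
  have := isEquivalence_restrict f
  let AA : FEt.Cat X := MorphismProperty.Over.mk ⊤ a ha
  let BB : FEt.Cat X := MorphismProperty.Over.mk ⊤ b hb
  let θ : (FEt.restrict f).obj AA ⟶ (FEt.restrict f).obj BB :=
    MorphismProperty.Over.homMk (hA.isoPullback.inv ≫ g ≫ hB.isoPullback.hom) (by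
      change (hA.isoPullback.inv ≫ g ≫ hB.isoPullback.hom) ≫ pullback.snd b f = pullback.snd a f
      rw [Category.assoc, Category.assoc, hB.isoPullback_hom_snd, wg, hA.isoPullback_inv_snd])
  obtain ⟨m, hm⟩ := (FEt.restrict f).map_surjective θ
  refine ⟨m.left, MorphismProperty.Over.w m, ?_⟩
  have h1 : (hA.isoPullback.inv ≫ g ≫ hB.isoPullback.hom) ≫ pullback.fst b f = pullback.fst a f ≫ m.left :=
    (congrArg (fun k => k.left ≫ pullback.fst b f) hm).symm.trans (pullback.lift_fst _ _ _)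
  rw [Category.assoc, Category.assoc, hB.isoPullback_hom_fst] at h1
  refine (congrArg (· ≫ m.left) hA.isoPullback_hom_fst.symm).trans ?_
  exact (Category.assoc _ _ _).trans ((congrArg (hA.isoPullback.hom ≫ ·) h1.symm).trans (Iso.hom_inv_id_assoc _ _))

theorem exists_cover {A' : Scheme.{u}} (a' : A' ⟶ X') (ha' : FEt.prop a') :
    ∃ (A : Scheme.{u}) (a : A ⟶ X) (s : A' ⟶ A), FEt.prop a ∧ IsPullback s a' a f := by
  have := isEquivalence_restrict f
  let Y : FEt.Cat X' := MorphismProperty.Over.mk ⊤ a' ha'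
  let Z := (FEt.restrict f).objPreimage Y
  let e : (FEt.restrict f).obj Z ≅ Y := (FEt.restrict f).objObjPreimageIso Y
  have hi1 : e.inv.left ≫ e.hom.left = 𝟙 A' := congrArg (fun k => k.left) e.inv_hom_id
  have hi2 : e.hom.left ≫ e.inv.left = 𝟙 (pullback Z.hom f) := congrArg (fun k => k.left) e.hom_inv_id
  let i : A' ≅ pullback Z.hom f := ⟨e.inv.left, e.hom.left, hi1, hi2⟩
  refine ⟨Z.left, Z.hom, i.hom ≫ pullback.fst Z.hom f, Z.prop,
    IsPullback.of_iso_pullback ⟨?_⟩ i rfl (MorphismProperty.Over.w e.inv)⟩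
  rw [Category.assoc, pullback.condition, ← Category.assoc]
  exact congrArg (· ≫ f) (MorphismProperty.Over.w e.inv)

end Thick

variable (𝔛 : FSch.Sys.{u})

theorem faithful_level (hF : 𝔛.IsFormal) : (FSch.EtCov.level 𝔛 0).Faithful where
  map_injective {R R' φ ψ} e := by
    refine ObjectProperty.hom_ext _ (Over.OverMorphism.ext (FSch.Hom.ext (funext fun n => ?_)))
    induction n with
    | zero => exact congrArg (fun k => k.left) e
    | succ n ih =>
      haveI := (hF n).1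
      haveI : Surjective (𝔛.ι n) := ⟨(hF n).2⟩
      refine hom_unique (𝔛.ι n) (R.property.2 (n + 1)) (R'.property.2 (n + 1)) (R.property.1 n)
        (congrArg (fun k => k.app (n + 1)) (Over.w φ.hom)) (congrArg (fun k => k.app (n + 1)) (Over.w ψ.hom)) ?_
      rw [← (φ.hom.left : FSch.Hom _ _).comm, ← (ψ.hom.left : FSch.Hom _ _).comm, ih]

theorem full_level (hF : 𝔛.IsFormal) : (FSch.EtCov.level 𝔛 0).Full where
  map_surjective {R R'} θ := by
    let P := fun n => {g : R.obj.left.X n ⟶ R'.obj.left.X n //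
      g ≫ (R'.obj.hom : FSch.Hom _ _).app n = (R.obj.hom : FSch.Hom _ _).app n}
    have step : ∀ (n : ℕ) (g : P n), ∃ g' : P (n + 1), R.obj.left.ι n ≫ g'.1 = g.1 ≫ R'.obj.left.ι n := by
      intro n g
      haveI := (hF n).1
      haveI : Surjective (𝔛.ι n) := ⟨(hF n).2⟩
      obtain ⟨h, h1, h2⟩ := hom_exists (𝔛.ι n) (R.property.2 (n + 1)) (R'.property.2 (n + 1))
        (R.property.1 n) (R'.property.1 n) g.1 g.2
      exact ⟨⟨h, h1⟩, h2⟩
    let F : ∀ n, P n := fun n => n.rec ⟨θ.left, MorphismProperty.Over.w θ⟩ fun n g => (step n g).choose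
    have hF' : ∀ n, R.obj.left.ι n ≫ (F (n + 1)).1 = (F n).1 ≫ R'.obj.left.ι n :=
      fun n => (step n (F n)).choose_spec
    refine ⟨ObjectProperty.homMk (Over.homMk ({ app := fun n => (F n).1, comm := fun n => (hF' n).symm } :
      FSch.Hom _ _) (FSch.Hom.ext (funext fun n => (F n).2))), ?_⟩
    exact MorphismProperty.Over.Hom.ext rfl

theorem essSurj_level (hF : 𝔛.IsFormal) : (FSch.EtCov.level 𝔛 0).EssSurj where
  mem_essImage Y := by
    let C := fun n => {p : Σ A : Scheme.{u}, A ⟶ 𝔛.X n // FEt.prop p.2}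
    have step : ∀ (n : ℕ) (p : C n), ∃ (q : C (n + 1)) (s : p.1.1 ⟶ q.1.1), IsPullback s p.1.2 q.1.2 (𝔛.ι n) := by
      intro n p
      haveI := (hF n).1
      haveI : Surjective (𝔛.ι n) := ⟨(hF n).2⟩
      obtain ⟨A, a, s, ha, hs⟩ := exists_cover (𝔛.ι n) p.1.2 p.2
      exact ⟨⟨⟨A, a⟩, ha⟩, s, hs⟩
    let F : ∀ n, C n := fun n => n.rec ⟨⟨Y.left, Y.hom⟩, Y.prop⟩ fun n p => (step n p).choose
    let s : ∀ n, (F n).1.1 ⟶ (F (n + 1)).1.1 := fun n => (step n (F n)).choose_spec.choose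
    have hs : ∀ n, IsPullback (s n) (F n).1.2 (F (n + 1)).1.2 (𝔛.ι n) :=
      fun n => (step n (F n)).choose_spec.choose_spec
    let Rs : FSch.Sys.{u} := ⟨fun n => (F n).1.1, s⟩
    let p : FSch.Hom Rs 𝔛 := { app := fun n => (F n).1.2, comm := fun n => (hs n).w.symm }
    exact ⟨⟨Over.mk (show Rs ⟶ 𝔛 from p), ⟨hs, fun n => (F n).2⟩⟩, ⟨Iso.refl _⟩⟩

theorem isEquivalence_level (h : 𝔛.IsFormal) : (FSch.EtCov.level 𝔛 0).IsEquivalence :=
  { faithful := faithful_level 𝔛 h, full := full_level 𝔛 h, essSurj := essSurj_level 𝔛 h }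

end Groth.Agent.EtCov27
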